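import Groth.Agent.An.H871.Basic
import Mathlib.AlgebraicGeometry.ZariskisMainTheorem
import Mathlib.Topology.SeparatedMap
import Mathlib.Topology.Maps.Proper.Basic

/-!
# Locally quasi-finite morphisms and complex points
-/

set_option autoImplicit false

open CategoryTheory AlgebraicGeometry Topology TopologicalSpace

noncomputable section

namespace Groth.Agent.An.H876.QuasiFinite

variable {X Y : Scheme.{0}} [X.Over An.SC] [Y.Over An.SC]

lemma preimage_preimage_pt (f : X ⟶ Y) [f.IsOver An.SC] [LocallyOfFiniteType (Y ↘ An.SC)]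
    (y : An.Pts Y) :
    (An.Pts.pt ⁻¹' (f ⁻¹' {y.pt}) : Set (An.Pts X)) = An.Pts.map f ⁻¹' {y} := by
  ext x
  simp only [Set.mem_preimage, Set.mem_singleton_iff]
  rw [← An.Pts.pt_map]
  exact ⟨fun h => H871.Basic.pt_injective h, fun h => congrArg _ h⟩

/-- If the fibre over a complex point `y` of the map of complex points is finite, then the fibre
of `f` over (the point underlying) `y` is finite. -/
theorem finite_preimage_of_finite (f : X ⟶ Y) [f.IsOver An.SC]
    [LocallyOfFiniteType (X ↘ An.SC)] [LocallyOfFiniteType (Y ↘ An.SC)] (y : An.Pts Y)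
    (h : (An.Pts.map f ⁻¹' {y}).Finite) : (f ⁻¹' {y.pt} : Set X).Finite := by
  have hJ := H871.Basic.jacobsonSpace X
  have hcl : IsClosed (f ⁻¹' {y.pt} : Set X) :=
    (H871.Basic.isClosed_pt y).preimage f.continuous
  have hS : ((f ⁻¹' {y.pt} : Set X) ∩ closedPoints X).Finite := by
    refine (h.image An.Pts.pt).subset ?_
    rintro x ⟨hx, hx'⟩
    obtain ⟨p, rfl⟩ := H871.Basic.exists_pts x hx'
    refine ⟨p, ?_, rfl⟩
    rw [← preimage_preimage_pt]
    exact hx
  have hScl : IsClosed ((f ⁻¹' {y.pt} : Set X) ∩ closedPoints X) := by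
    have : ((f ⁻¹' {y.pt} : Set X) ∩ closedPoints X) =
        ⋃ x ∈ ((f ⁻¹' {y.pt} : Set X) ∩ closedPoints X), {x} :=
      (Set.biUnion_of_singleton _).symm
    rw [this]
    exact hS.isClosed_biUnion fun x hx => hx.2
  have hcc : closure ((f ⁻¹' {y.pt} : Set X) ∩ closedPoints X) = f ⁻¹' {y.pt} :=
    JacobsonSpace.closure_inter_closedPoints hcl
  rw [hScl.closure_eq] at hcc
  rw [← hcc]
  exact hS

/-- A morphism of schemes locally of finite type over `ℂ` with finite fibres on complex points
is locally quasi-finite. -/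
theorem locallyQuasiFinite_of_finite (f : X ⟶ Y) [f.IsOver An.SC]
    [LocallyOfFiniteType (X ↘ An.SC)] [LocallyOfFiniteType (Y ↘ An.SC)]
    (h : ∀ y : An.Pts Y, (An.Pts.map f ⁻¹' {y}).Finite) : LocallyQuasiFinite f := by
  have hf : LocallyOfFiniteType f := H871.Basic.locallyOfFiniteType_of_isOver f
  rw [← Scheme.Hom.quasiFiniteLocus_eq_top_iff]
  by_contra hne
  obtain ⟨p, hp⟩ := H871.Basic.exists_pts_mem_of_isClosed (X := X)
    (U := (f.quasiFiniteLocus : Set X)ᶜ) f.quasiFiniteLocus.isOpen.isClosed_compl (by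
      rw [Set.nonempty_compl]
      intro hu
      exact hne (TopologicalSpace.Opens.ext hu))
  refine hp ?_
  change f.QuasiFiniteAt p.pt
  have hfin : (f ⁻¹' {f p.pt} : Set X).Finite := by
    rw [← An.Pts.pt_map]
    exact finite_preimage_of_finite f _ (h _)
  have : Finite (f.fiber (f p.pt)) := (f.fiberHomeo (f p.pt)).finite_iff.mpr hfin
  exact Scheme.Hom.quasiFiniteAt_iff_isOpen_singleton_asFiber.mpr (isOpen_discrete _)

/-- Fibres on complex points of a quasi-compact locally quasi-finite morphism are finite. -/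
theorem finite_of_locallyQuasiFinite (f : X ⟶ Y) [f.IsOver An.SC]
    [LocallyOfFiniteType (X ↘ An.SC)] [LocallyOfFiniteType (Y ↘ An.SC)]
    [LocallyQuasiFinite f] [QuasiCompact f] (y : An.Pts Y) :
    (An.Pts.map f ⁻¹' {y}).Finite := by
  rw [← preimage_preimage_pt]
  exact (f.finite_preimage_singleton y.pt).preimage H871.Basic.pt_injective.injOn

/-- For a quasi-compact morphism of schemes locally of finite type over `ℂ`, being locally
quasi-finite is the same as having finite fibres on complex points. -/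
theorem locallyQuasiFinite_iff (f : X ⟶ Y) [f.IsOver An.SC]
    [LocallyOfFiniteType (X ↘ An.SC)] [LocallyOfFiniteType (Y ↘ An.SC)] [QuasiCompact f] :
    LocallyQuasiFinite f ↔ ∀ y : An.Pts Y, (An.Pts.map f ⁻¹' {y}).Finite :=
  ⟨fun _ y => finite_of_locallyQuasiFinite f y, locallyQuasiFinite_of_finite f⟩

/-- Reduction of the criterion of finiteness to the criterion of properness. -/
theorem isFinite_iff_of (f : X ⟶ Y) [f.IsOver An.SC]
    [LocallyOfFiniteType (X ↘ An.SC)] [LocallyOfFiniteType (Y ↘ An.SC)] [QuasiCompact f]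
    (hP : IsProper f ↔ IsProperMap (An.Pts.map f) ∧ IsSeparatedMap (An.Pts.map f)) :
    IsFinite f ↔ IsProperMap (An.Pts.map f) ∧ IsSeparatedMap (An.Pts.map f) ∧
      ∀ y : An.Pts Y, (An.Pts.map f ⁻¹' {y}).Finite := by
  rw [IsFinite.iff_isProper_and_locallyQuasiFinite, hP, locallyQuasiFinite_iff f, and_assoc]

end Groth.Agent.An.H876.QuasiFinite
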